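import Mathlib.RingTheory.Length
import Mathlib.RingTheory.LocalRing.MaximalIdeal.Basic
import Mathlib.RingTheory.Noetherian.Basic
import Mathlib.RingTheory.Ideal.Operations
import Mathlib.Data.Prod.Lex
import Mathlib.Order.PiLex
import Mathlib.Data.Finset.Max
import Mathlib.Algebra.Order.BigOperators.Group.Finset

/-!
# Standard exponents in a local ring

Generators `x` of the maximal ideal give the exponents `a` ordered by degree and then lexicographically.
`Esc x I a` says that `x^a` does not lie in `I` plus the span of the later monomials; the colength of an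
`m`-primary ideal is the number of such exponents.
-/

universe u

namespace Groth.Agent.LocMonomial

variable {O : Type u} [CommRing O] {R : ℕ}

/-- The order key: degree, then lexicographic. -/
def key (a : Fin R → ℕ) : ℕ ×ₗ Lex (Fin R → ℕ) := toLex (∑ i, a i, toLex a)

theorem key_injective : Function.Injective (key (R := R)) := fun _ _ h =>
  toLex.injective (congrArg Prod.snd (toLex.injective h))

theorem key_lt_iff {a b : Fin R → ℕ} :
    key a < key b ↔ ∑ i, a i < ∑ i, b i ∨ ∑ i, a i = ∑ i, b i ∧ toLex a < toLex b :=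
  Prod.Lex.toLex_lt_toLex

theorem key_add_lt {a b : Fin R → ℕ} (h : key a < key b) (c : Fin R → ℕ) : key (a + c) < key (b + c) := by
  rw [key_lt_iff] at h ⊢
  simp only [Pi.add_apply, Finset.sum_add_distrib]
  rcases h with h | ⟨h1, i, hi, hlt⟩
  · exact Or.inl (Nat.add_lt_add_right h _)
  · refine Or.inr ⟨by rw [h1], i, fun j hj => ?_, ?_⟩
    · exact congrArg (· + c j) (hi j hj)
    · exact Nat.add_lt_add_right hlt (c i)

variable (x : Fin R → O)

/-- The monomial. -/
def mon (a : Fin R → ℕ) : O := ∏ i, x i ^ a i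

theorem mon_add (a b : Fin R → ℕ) : mon x (a + b) = mon x a * mon x b := by
  simp [mon, pow_add, Finset.prod_mul_distrib]

/-- The span of the monomials after `a`. -/
def F (a : Fin R → ℕ) : Ideal O := Ideal.span (mon x '' {b | key a < key b})

/-- The exponents escaping `I`. -/
def Esc (I : Ideal O) (a : Fin R → ℕ) : Prop := mon x a ∉ I ⊔ F x a

theorem F_mul {a c : Fin R → ℕ} {f g : O} (hf : f ∈ F x a) (hg : g ∈ F x c ∨ g = mon x c) :
    f * g ∈ F x (a + c) := by
  induction hf using Submodule.span_induction with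
  | mem f hf =>
    obtain ⟨b, hb, rfl⟩ := hf
    rcases hg with hg | rfl
    · induction hg using Submodule.span_induction with
      | mem g hg =>
        obtain ⟨d, hd, rfl⟩ := hg
        rw [← mon_add]
        refine Ideal.subset_span ⟨b + d, ?_, rfl⟩
        refine (key_add_lt hb c).trans ?_
        rw [add_comm b c, add_comm b d]
        exact key_add_lt hd b
      | zero => rw [mul_zero]; exact zero_mem _
      | add p q _ _ hp hq => rw [mul_add]; exact add_mem hp hq
      | smul r p _ hp => rw [smul_eq_mul, mul_left_comm]; exact Ideal.mul_mem_left _ r hp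
    · rw [← mon_add]
      exact Ideal.subset_span ⟨b + c, key_add_lt hb c, rfl⟩
  | zero => rw [zero_mul]; exact zero_mem _
  | add p q _ _ hp hq => rw [add_mul]; exact add_mem hp hq
  | smul r p _ hp => rw [smul_eq_mul, mul_assoc]; exact Ideal.mul_mem_left _ r hp

variable {x}

theorem not_esc_iff {I : Ideal O} {a : Fin R → ℕ} : ¬ Esc x I a ↔ ∃ i ∈ I, mon x a - i ∈ F x a := by
  rw [Esc, not_not, Submodule.mem_sup]
  constructor
  · rintro ⟨i, hi, f, hf, h⟩
    exact ⟨i, hi, by rw [← h, add_sub_cancel_left]; exact hf⟩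
  · rintro ⟨i, hi, hf⟩
    exact ⟨i, hi, _, hf, add_sub_cancel i _⟩

theorem not_esc_mul {I J : Ideal O} {a b : Fin R → ℕ} (ha : ¬ Esc x I a) (hb : ¬ Esc x J b) :
    ¬ Esc x (I * J) (a + b) := by
  rw [not_esc_iff] at ha hb ⊢
  obtain ⟨i, hi, hi'⟩ := ha
  obtain ⟨j, hj, hj'⟩ := hb
  refine ⟨i * j, Ideal.mul_mem_mul hi hj, ?_⟩
  have e : mon x (a + b) - i * j =
      (mon x a - i) * mon x b + (mon x b - j) * mon x a - (mon x a - i) * (mon x b - j) := by
    rw [mon_add]; ring
  rw [e]
  refine sub_mem (add_mem (F_mul x hi' (Or.inr rfl)) ?_) (F_mul x hi' (Or.inl hj'))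
  rw [add_comm a b]
  exact F_mul x hj' (Or.inr rfl)

theorem not_esc_add {I : Ideal O} {a : Fin R → ℕ} (ha : ¬ Esc x I a) (c : Fin R → ℕ) :
    ¬ Esc x I (a + c) := by
  have h : ¬ Esc x (⊤ : Ideal O) c := by rw [Esc, not_not, top_sup_eq]; trivial
  have := not_esc_mul ha h
  rwa [Ideal.mul_top] at this

theorem esc_of_le {I : Ideal O} {a b : Fin R → ℕ} (h : Esc x I b) (hab : a ≤ b) : Esc x I a := by
  by_contra ha
  refine not_esc_add ha (b - a) ?_
  rwa [show a + (b - a) = b from funext fun i => Nat.add_sub_cancel' (hab i)]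

theorem esc_anti {I J : Ideal O} (hIJ : I ≤ J) {a : Fin R → ℕ} (h : Esc x J a) : Esc x I a :=
  fun h' => h (sup_le_sup_right hIJ (F x a) h')

theorem not_esc_pow {I : Ideal O} {a : Fin R → ℕ} (ha : ¬ Esc x I a) :
    ∀ n : ℕ, ¬ Esc x (I ^ n) (n • a)
  | 0 => by rw [pow_zero, Esc, not_not, Ideal.one_eq_top, top_sup_eq]; trivial
  | n + 1 => by rw [pow_succ, succ_nsmul]; exact not_esc_mul (not_esc_pow ha n) ha

section local_

variable [IsLocalRing O] (hx : Ideal.span (Set.range x) = IsLocalRing.maximalIdeal O)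

include hx in
theorem x_mem (i : Fin R) : x i ∈ IsLocalRing.maximalIdeal O :=
  hx ▸ Ideal.subset_span ⟨i, rfl⟩

include hx in
theorem mon_mem (a : Fin R → ℕ) : mon x a ∈ IsLocalRing.maximalIdeal O ^ (∑ i, a i) := by
  rw [← Finset.prod_pow_eq_pow_sum]
  exact Ideal.prod_mem_prod fun i _ => Ideal.pow_mem_pow (x_mem hx i) _

include hx in
theorem pow_le_span : ∀ n : ℕ,
    IsLocalRing.maximalIdeal O ^ n ≤ Ideal.span (mon x '' {b | ∑ i, b i = n})
  | 0 => by
    refine fun r _ => ?_
    have : (1 : O) ∈ Ideal.span (mon x '' {b | ∑ i, b i = 0}) :=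
      Ideal.subset_span ⟨0, by simp, by simp [mon]⟩
    simpa using Ideal.mul_mem_left _ r this
  | n + 1 => by
    rw [pow_succ]
    refine (Ideal.mul_mono (pow_le_span n) hx.ge).trans ?_
    rw [Ideal.span_mul_span', Ideal.span_le]
    rintro _ ⟨_, ⟨b, hb, rfl⟩, _, ⟨j, rfl⟩, rfl⟩
    classical
    refine Ideal.subset_span ⟨b + Pi.single j 1, ?_, ?_⟩
    · change ∑ i, (b i + (Pi.single j 1 : Fin R → ℕ) i) = n + 1
      rw [Finset.sum_add_distrib, Finset.sum_pi_single', if_pos (Finset.mem_univ j), hb]
    · change mon x (b + Pi.single j 1) = mon x b * x j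
      rw [mon_add]
      congr 1
      rw [mon, Finset.prod_eq_single j (fun i _ hi => by rw [Pi.single_eq_of_ne hi, pow_zero])
        (fun h => absurd (Finset.mem_univ j) h), Pi.single_eq_same, pow_one]

/-- The exponents of degree less than `N`. -/
def simplex (R N : ℕ) : Finset (Fin R → ℕ) :=
  (Fintype.piFinset fun _ : Fin R => Finset.range N).filter fun a => ∑ i, a i < N

theorem mem_simplex {N : ℕ} {a : Fin R → ℕ} : a ∈ simplex R N ↔ ∑ i, a i < N := by
  refine ⟨fun h => (Finset.mem_filter.1 h).2, fun h => Finset.mem_filter.2 ⟨?_, h⟩⟩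
  exact Fintype.mem_piFinset.2 fun i =>
    Finset.mem_range.2 ((Finset.single_le_sum (fun j _ => Nat.zero_le (a j)) (Finset.mem_univ i)).trans_lt h)

theorem length_step {G : Ideal O} {t : O} (hm : ∀ r ∈ IsLocalRing.maximalIdeal O, r * t ∈ G) [Decidable (t ∈ G)] :
    Module.length O (O ⧸ G) = Module.length O (O ⧸ G ⊔ Ideal.span {t}) + if t ∈ G then 0 else 1 := by
  split_ifs with ht
  · rw [sup_eq_left.2 ((Ideal.span_singleton_le_iff_mem G).2 ht), add_zero]
  · let f : (O ⧸ IsLocalRing.maximalIdeal O) →ₗ[O] O ⧸ G :=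
      Submodule.mapQ _ _ (LinearMap.mulRight O t) fun r hr => hm r hr
    let g : (O ⧸ G) →ₗ[O] O ⧸ G ⊔ Ideal.span {t} := Submodule.factor le_sup_left
    have hf : Function.Injective f := by
      refine LinearMap.ker_eq_bot.1 (LinearMap.ker_eq_bot'.2 fun q hq => ?_)
      obtain ⟨r, rfl⟩ := Submodule.mkQ_surjective _ q
      refine (Submodule.Quotient.mk_eq_zero _).2 ?_
      by_contra hr
      obtain ⟨v, rfl⟩ := IsLocalRing.notMem_maximalIdeal.1 hr
      have hq' : (v : O) * t ∈ G := (Submodule.Quotient.mk_eq_zero _).1 hq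
      exact ht (by simpa using G.mul_mem_left (↑v⁻¹) hq')
    have hfg : Function.Exact f g := by
      intro q
      obtain ⟨a, rfl⟩ := Submodule.mkQ_surjective _ q
      constructor
      · intro ha
        obtain ⟨u, hu, w, hw, e⟩ := Submodule.mem_sup.1 ((Submodule.Quotient.mk_eq_zero _).1 ha)
        obtain ⟨r, rfl⟩ := Ideal.mem_span_singleton'.1 hw
        refine ⟨Submodule.Quotient.mk r, (Submodule.Quotient.eq _).2 ?_⟩
        change r * t - a ∈ G
        change u + r * t = a at e
        rw [← e, sub_add_cancel_right]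
        exact neg_mem hu
      · rintro ⟨s, hs⟩
        obtain ⟨r, rfl⟩ := Submodule.mkQ_surjective _ s
        rw [← hs]
        exact (Submodule.Quotient.mk_eq_zero _).2 (Submodule.mem_sup_right (Ideal.mem_span_singleton'.2 ⟨r, rfl⟩))
    have : IsSimpleModule O (O ⧸ IsLocalRing.maximalIdeal O) :=
      isSimpleModule_iff_isCoatom.2 (IsLocalRing.maximalIdeal.isMaximal O).1
    rw [Module.length_eq_add_of_exact f g hf (Submodule.factor_surjective _) hfg, Module.length_eq_one,
      add_comm]

open Classical in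
include hx in
theorem length_aux (I : Ideal O) (s : Finset (Fin R → ℕ)) :
    (∀ a ∈ s, ∀ b, key b < key a → b ∈ s) →
      Module.length O (O ⧸ I ⊔ Ideal.span (mon x '' (s : Set (Fin R → ℕ))ᶜ)) = (s.filter (Esc x I)).card := by
  induction s using Finset.induction_on_max_value (key (R := R)) with
  | empty =>
    intro _
    have h : I ⊔ Ideal.span (mon x '' ((∅ : Finset (Fin R → ℕ)) : Set (Fin R → ℕ))ᶜ) = ⊤ :=
      (Ideal.eq_top_iff_one _).2 (Ideal.mem_sup_right (Ideal.subset_span ⟨0, by simp, by simp [mon]⟩))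
    rw [h, Finset.filter_empty, Finset.card_empty, Nat.cast_zero, Module.length_eq_zero_iff]
    exact Submodule.Quotient.subsingleton_iff.2 rfl
  | insert a s ha hmax ih =>
    intro hinit
    have hlt : ∀ b ∈ s, key b < key a := fun b hb =>
      lt_of_le_of_ne (hmax b hb) fun h => ha (key_injective h ▸ hb)
    have ih' := ih fun b hb c hc => (Finset.mem_insert.1 (hinit b (Finset.mem_insert_of_mem hb) c hc)).resolve_left
      fun h => absurd (hc.trans (hlt b hb)) (h ▸ lt_irrefl _)
    have hc : ((↑(insert a s) : Set (Fin R → ℕ)))ᶜ = {b | key a < key b} := by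
      ext b
      simp only [Finset.coe_insert, Set.mem_compl_iff, Set.mem_insert_iff, Finset.mem_coe, not_or, Set.mem_setOf_eq]
      constructor
      · rintro ⟨h1, h2⟩
        rcases lt_trichotomy (key a) (key b) with h | h | h
        · exact h
        · exact absurd (key_injective h).symm h1
        · exact absurd ((Finset.mem_insert.1 (hinit a (Finset.mem_insert_self _ _) b h)).resolve_left h1) h2
      · intro h
        exact ⟨fun e => lt_irrefl (key a) (e ▸ h), fun hb => lt_asymm h (hlt b hb)⟩
    have hs : I ⊔ Ideal.span (mon x '' (s : Set (Fin R → ℕ))ᶜ) = I ⊔ F x a ⊔ Ideal.span {mon x a} := by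
      rw [sup_assoc, F, ← Ideal.span_union, ← hc, ← Set.image_singleton, ← Set.image_union]
      congr
      ext b
      by_cases hb : b = a
      · subst hb; simp [ha]
      · simp [hb]
    have hm : ∀ r ∈ IsLocalRing.maximalIdeal O, r * mon x a ∈ I ⊔ F x a := fun r hr => by
      refine Ideal.mem_sup_right ?_
      rw [← hx] at hr
      induction hr using Submodule.span_induction with
      | mem r hr =>
        obtain ⟨i, rfl⟩ := hr
        refine Ideal.subset_span ⟨a + Pi.single i 1, ?_, ?_⟩
        · refine key_lt_iff.2 (Or.inl ?_)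
          simp [Finset.sum_add_distrib]
        · rw [mon_add, mul_comm]
          congr 1
          rw [mon, Finset.prod_eq_single i (fun j _ hj => by rw [Pi.single_eq_of_ne hj, pow_zero])
            (fun h => absurd (Finset.mem_univ i) h), Pi.single_eq_same, pow_one]
      | zero => rw [zero_mul]; exact zero_mem _
      | add p q _ _ hp hq => rw [add_mul]; exact add_mem hp hq
      | smul c p _ hp => rw [smul_eq_mul, mul_assoc]; exact Ideal.mul_mem_left _ c hp
    rw [hc, show I ⊔ Ideal.span (mon x '' {b | key a < key b}) = I ⊔ F x a from rfl, length_step hm, ← hs, ih',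
      Finset.filter_insert]
    by_cases h : Esc x I a
    · rw [if_neg h, if_pos h, Finset.card_insert_of_notMem fun hh => ha (Finset.mem_filter.1 hh).1]
      push_cast; rfl
    · rw [if_pos (not_not.1 h), if_neg h, add_zero]

open Classical in
include hx in
/-- The colength is the number of escaping exponents. -/
theorem length_eq_card {I : Ideal O} {N : ℕ} (hN : IsLocalRing.maximalIdeal O ^ N ≤ I) :
    Module.length O (O ⧸ I) = ((simplex R N).filter (Esc x I)).card := by
  rw [← length_aux hx I (simplex R N) fun a ha b hb => mem_simplex.2 <| by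
    have h := mem_simplex.1 ha
    rcases key_lt_iff.1 hb with h' | h' <;> omega]
  rw [sup_eq_left.2]
  refine Ideal.span_le.2 ?_
  rintro _ ⟨b, hb, rfl⟩
  exact hN (Ideal.pow_le_pow_right (not_lt.1 fun h => hb (mem_simplex.2 h)) (mon_mem hx b))

include hx in
theorem not_esc_of_le {I : Ideal O} {N : ℕ} (hN : IsLocalRing.maximalIdeal O ^ N ≤ I) {a : Fin R → ℕ}
    (ha : N ≤ ∑ i, a i) : ¬ Esc x I a :=
  fun h => h (Ideal.mem_sup_left (hN (Ideal.pow_le_pow_right ha (mon_mem hx a))))

include hx in
theorem esc_pow_iff {n : ℕ} {a : Fin R → ℕ} (ha : ∑ i, a i < n) :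
    Esc x (IsLocalRing.maximalIdeal O ^ n) a ↔ Esc x ⊥ a := by
  have hle : IsLocalRing.maximalIdeal O ^ n ≤ F x a := (pow_le_span hx n).trans (Ideal.span_mono (Set.image_mono
    fun b hb => key_lt_iff.2 (Or.inl (by rw [show ∑ i, b i = n from hb]; exact ha))))
  rw [Esc, Esc, bot_sup_eq, sup_eq_right.2 hle]

end local_

end Groth.Agent.LocMonomial
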