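import Groth.Agent.LocMonomial.Basic
import Mathlib.Order.WellQuasiOrder
import Mathlib.Data.Sym.Card
import Mathlib.Data.Nat.Choose.Bounds
import Mathlib.Data.Fintype.Pi

/-!
# Counting in a down-set of exponents

A down-set is determined by truncation at some `N`; each cell is a translate of a coordinate orthant.
-/

namespace Groth.Agent.LocMonomial.Count

variable {R : ℕ}

/-- Truncation. -/
def trunc (N : ℕ) (a : Fin R → ℕ) : Fin R → ℕ := fun i => min (a i) N

theorem trunc_le (N : ℕ) (a : Fin R → ℕ) : trunc N a ≤ a := fun _ => min_le_left _ _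

theorem exists_trunc (D : (Fin R → ℕ) → Prop) (hD : ∀ a b, D b → a ≤ b → D a) :
    ∃ N, ∀ a, D a ↔ D (trunc N a) := by
  by_contra h
  push_neg at h
  have h' : ∀ N, ∃ a, ¬ D a ∧ D (trunc N a) := fun N => by
    obtain ⟨a, ha⟩ := h N
    rcases ha with ⟨h1, h2⟩ | ⟨h1, h2⟩
    · exact absurd (hD _ _ h1 (trunc_le N a)) h2
    · exact ⟨a, h1, h2⟩
  choose f hf1 hf2 using h'
  obtain ⟨g, hg⟩ := WellQuasiOrdered.exists_monotone_subseq (wellQuasiOrdered_le (α := Fin R → ℕ)) f
  let B := ∑ i, f (g 0) i
  have h0 : f (g 0) ≤ trunc (g B) (f (g B)) := fun i =>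
    le_min (hg 0 B (Nat.zero_le B) i)
      ((Finset.single_le_sum (fun j _ => Nat.zero_le _) (Finset.mem_univ i)).trans g.strictMono.le_apply)
  exact hf1 _ (hD _ _ (hf2 _) h0)

/-- The free coordinates of a cell. -/
def free (N : ℕ) (c : Fin R → ℕ) : Finset (Fin R) := Finset.univ.filter fun i => c i = N

open Classical in
/-- The cells inside `D`. -/
noncomputable def cells (D : (Fin R → ℕ) → Prop) (N : ℕ) : Finset (Fin R → ℕ) :=
  (Fintype.piFinset fun _ : Fin R => Finset.range (N + 1)).filter D

open Classical in
theorem mem_cells {D : (Fin R → ℕ) → Prop} {N : ℕ} {c : Fin R → ℕ} :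
    c ∈ cells D N ↔ (∀ i, c i ≤ N) ∧ D c := by
  rw [cells, Finset.mem_filter, Fintype.mem_piFinset]
  simp [Nat.lt_succ_iff]

open Classical in
/-- The box. -/
noncomputable def box (D : (Fin R → ℕ) → Prop) (n : ℕ) : Finset (Fin R → ℕ) :=
  (Fintype.piFinset fun _ : Fin R => Finset.range n).filter D

open Classical in
theorem card_box_le {D : (Fin R → ℕ) → Prop} {N : ℕ} (hN : ∀ a, D a ↔ D (trunc N a)) (n : ℕ) :
    (box D n).card ≤ ∑ c ∈ cells D N, n ^ (free N c).card := by
  have hmap : ∀ a ∈ box D n, trunc N a ∈ cells D N := fun a ha =>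
    mem_cells.2 ⟨fun i => min_le_right _ _, (hN a).1 (Finset.mem_filter.1 ha).2⟩
  rw [Finset.card_eq_sum_card_fiberwise hmap]
  refine Finset.sum_le_sum fun c _ => ?_
  refine (Finset.card_le_card (t := Fintype.piFinset fun i => if c i = N then Finset.range n else {c i}) ?_).trans ?_
  · intro a ha
    obtain ⟨ha, rfl⟩ := Finset.mem_filter.1 ha
    refine Fintype.mem_piFinset.2 fun i => ?_
    split_ifs with h
    · rw [box] at ha
      exact Fintype.mem_piFinset.1 (Finset.mem_filter.1 (Finset.mem_filter.1 ha).1).1 i
    · have h' : min (a i) N ≠ N := h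
      exact Finset.mem_singleton.2 (show a i = min (a i) N by omega)
  · rw [Fintype.card_piFinset, free, ← Finset.prod_const]
    rw [Finset.prod_filter]
    refine le_of_eq (Finset.prod_congr rfl fun i _ => ?_)
    split_ifs <;> simp

theorem pow_le_choose_mul (s M : ℕ) : (M + 1) ^ s ≤ s.factorial * (s + M).choose s := by
  rw [← Nat.descFactorial_eq_factorial_mul_choose]
  have := Nat.pow_sub_le_descFactorial (s + M) s
  rwa [show s + M + 1 - s = M + 1 by omega] at this

open Classical in
theorem card_simplex_ge {D : (Fin R → ℕ) → Prop} {N : ℕ} (hN : ∀ a, D a ↔ D (trunc N a)) {n : ℕ}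
    (hn : R * N + 1 ≤ n) :
    ∑ c ∈ cells D N, ((free N c).card + (n - 1 - R * N)).choose (free N c).card ≤
      ((simplex R n).filter D).card := by
  let M := n - 1 - R * N
  let f : (c : Fin R → ℕ) → Sym (Option (free N c)) M → Fin R → ℕ := fun c m i =>
    c i + if h : i ∈ free N c then Multiset.count (some ⟨i, h⟩) (m : Multiset (Option (free N c))) else 0
  have htr : ∀ c, (∀ i, c i ≤ N) → ∀ m, trunc N (f c m) = c := fun c hc m => funext fun i => by
    change min (c i + _) N = c i
    split_ifs with h
    · have := (Finset.mem_filter.1 h).2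
      omega
    · have := hc i
      omega
  refine le_trans (le_of_eq ?_) (Finset.card_le_card_of_injOn (s := (cells D N).sigma fun c =>
      (Finset.univ : Finset (Sym (Option (free N c)) M))) (fun p => f p.1 p.2) ?_ ?_)
  · rw [Finset.card_sigma]
    refine Finset.sum_congr rfl fun c _ => ?_
    rw [Finset.card_univ, Sym.card_sym_eq_choose, Fintype.card_option, Fintype.card_coe,
      show (free N c).card + 1 + M - 1 = (free N c).card + M by omega, Nat.choose_symm_add]
  · intro p hp
    obtain ⟨hc, -⟩ := Finset.mem_sigma.1 hp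
    obtain ⟨hc1, hc2⟩ := mem_cells.1 hc
    refine Finset.mem_filter.2 ⟨mem_simplex.2 ?_, (hN _).2 (by rw [htr _ hc1]; exact hc2)⟩
    simp only [f, Finset.sum_add_distrib]
    have h1 : ∑ i, p.1 i ≤ R * N := by
      refine (Finset.sum_le_sum fun i _ => hc1 i).trans ?_
      simp
    have h2 : ∑ i, (if h : i ∈ free N p.1 then
        Multiset.count (some ⟨i, h⟩) (p.2 : Multiset (Option (free N p.1))) else 0) ≤ M := by
      rw [← Finset.sum_subset (Finset.subset_univ (free N p.1)) fun i _ hi => dif_neg hi,
        ← Finset.sum_coe_sort (free N p.1)]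
      refine le_trans (le_of_eq (Finset.sum_congr rfl fun i _ => dif_pos i.2)) ?_
      have h3 := Multiset.sum_count_eq_card (s := (Finset.univ : Finset (Option (free N p.1))))
        (m := (p.2 : Multiset (Option (free N p.1)))) fun _ _ => Finset.mem_univ _
      rw [Fintype.sum_option, Sym.card_coe] at h3
      simp only [Subtype.coe_eta]
      omega
    omega
  · intro p hp q hq h
    obtain ⟨hc, -⟩ := Finset.mem_sigma.1 hp
    obtain ⟨hd, -⟩ := Finset.mem_sigma.1 hq
    obtain ⟨c, m⟩ := p
    obtain ⟨d, m'⟩ := q
    have hcd : c = d := by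
      rw [← htr c (mem_cells.1 hc).1 m, ← htr d (mem_cells.1 hd).1 m']
      exact congrArg _ h
    subst hcd
    refine Sigma.ext rfl (heq_of_eq (Sym.coe_injective (Multiset.ext.2 fun o => ?_)))
    have hs : ∀ i : free N c, Multiset.count (some i) (m : Multiset (Option (free N c))) =
        Multiset.count (some i) (m' : Multiset (Option (free N c))) := fun i => by
      have := congrFun h i
      simp only [f, dif_pos i.2] at this
      exact Nat.add_left_cancel this
    cases o with
    | some i => exact hs i
    | none =>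
      change Multiset.count none (m : Multiset (Option (free N c))) = Multiset.count none (m' : Multiset (Option (free N c)))
      have h3 := Multiset.sum_count_eq_card (s := (Finset.univ : Finset (Option (free N c))))
        (m := (m : Multiset (Option (free N c)))) fun _ _ => Finset.mem_univ _
      have h4 := Multiset.sum_count_eq_card (s := (Finset.univ : Finset (Option (free N c))))
        (m := (m' : Multiset (Option (free N c)))) fun _ _ => Finset.mem_univ _
      rw [Fintype.sum_option, Sym.card_coe] at h3
      rw [Fintype.sum_option, Sym.card_coe, ← Finset.sum_congr rfl fun i _ => hs i] at h4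
      omega

end Groth.Agent.LocMonomial.Count
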