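import Groth.Agent.LocMonomial.Basic
import Groth.Agent.PSLoc.Basic
import Mathlib.RingTheory.MvPowerSeries.Inverse
import Mathlib.RingTheory.Ideal.Maps
import Mathlib.RingTheory.Ideal.Quotient.Operations
import Mathlib.Topology.Instances.Real.Lemmas
import Mathlib.Analysis.SpecificLimits.Basic

/-!
# The ideal `(x², xy, y², xt, yt², t⁴)` of `k[[x,y,t]]/(x² - yⁿ)`
-/

universe u

open Filter Topology MvPowerSeries

namespace Groth.Agent.LocMonomial.DoublePoint

variable (k : Type u) [Field k] (n : ℕ)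

/-- The series ring. -/
abbrev P : Type u := MvPowerSeries (Fin 3) k

/-- The equation. -/
noncomputable abbrev eqn : Ideal (P k) := Ideal.span {(X 0 ^ 2 - X 1 ^ n : P k)}

/-- The double point. -/
abbrev A : Type u := P k ⧸ eqn k n

/-- The coordinates. -/
noncomputable abbrev x (i : Fin 3) : A k n := Ideal.Quotient.mk _ (X i)

/-- The ideal. -/
noncomputable abbrev I : Ideal (A k n) :=
  Ideal.map (Ideal.Quotient.mk (eqn k n))
    (Ideal.span {(X 0 ^ 2 : P k), X 0 * X 1, X 1 ^ 2, X 0 * X 2, X 1 * X 2 ^ 2, X 2 ^ 4})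

/-- The weight. -/
def w (a : Fin 3 → ℕ) : ℕ := 3 * a 0 + 2 * a 1 + a 2

variable {k n}

theorem nontrivial (hn : 1 ≤ n) : Nontrivial (A k n) := by
  refine Ideal.Quotient.nontrivial_iff.2 fun h => ?_
  have h1 : (1 : P k) ∈ eqn k n := h ▸ Submodule.mem_top
  obtain ⟨g, hg⟩ := Ideal.mem_span_singleton.1 h1
  have := congrArg (constantCoeff (σ := Fin 3) (R := k)) hg
  simp [show n ≠ 0 by omega] at this

theorem span_x [IsLocalRing (A k n)] : Ideal.span (Set.range (x k n)) = IsLocalRing.maximalIdeal (A k n) := by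
  have h : Ideal.span (Set.range (x k n)) = (IsLocalRing.maximalIdeal (P k)).map (Ideal.Quotient.mk (eqn k n)) := by
    rw [PSLoc.maximalIdeal_eq k, Ideal.map_span, ← Set.range_comp]; rfl
  rw [h]
  rcases Ideal.map_eq_top_or_isMaximal_of_surjective (Ideal.Quotient.mk (eqn k n)) Ideal.Quotient.mk_surjective
    (IsLocalRing.maximalIdeal.isMaximal (P k)) with h' | h'
  · exfalso
    have h1 : (1 : A k n) ∈ (IsLocalRing.maximalIdeal (P k)).map (Ideal.Quotient.mk (eqn k n)) :=
      h' ▸ Submodule.mem_top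
    obtain ⟨p, hp, hp'⟩ := (Ideal.mem_map_iff_of_surjective _ Ideal.Quotient.mk_surjective).1 h1
    rw [← map_one (Ideal.Quotient.mk (eqn k n)), Ideal.Quotient.eq] at hp'
    have hle : eqn k n ≠ ⊤ := Ideal.Quotient.nontrivial_iff.1 inferInstance
    have := IsLocalRing.le_maximalIdeal hle hp'
    exact (IsLocalRing.maximalIdeal.isMaximal (P k)).ne_top
      ((Ideal.eq_top_iff_one _).2 (by simpa using sub_mem hp this))
  · exact IsLocalRing.eq_maximalIdeal h'

theorem I_succ (m : ℕ) : I k n ^ (m + 1) = I k n ^ m * I k n := Submodule.pow_succ _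

theorem I_zero : I k n ^ 0 = ⊤ := (Submodule.pow_zero _).trans Ideal.one_eq_top

/-- The exponents. -/
noncomputable abbrev E (a : Fin 3 → ℕ) : Fin 3 →₀ ℕ := Finsupp.equivFunOnFinite.symm a

theorem X_pow_prod (a : Fin 3 → ℕ) : (∏ i, (X i : P k) ^ a i) = monomial (E a) 1 := by
  rw [Fin.prod_univ_three, X_pow_eq, X_pow_eq, X_pow_eq, monomial_mul_monomial, monomial_mul_monomial, one_mul,
    one_mul]
  congr 2
  ext i
  fin_cases i <;> simp [E]

theorem mon_eq (a : Fin 3 → ℕ) : mon (x k n) a = Ideal.Quotient.mk _ (monomial (E a) (1 : k)) := by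
  rw [← X_pow_prod, map_prod]
  simp only [mon, x, map_pow]

theorem mon_vec (a b c : ℕ) : mon (x k n) ![a, b, c] = x k n 0 ^ a * x k n 1 ^ b * x k n 2 ^ c := by
  rw [mon, Fin.prod_univ_three]; rfl

theorem gen_mem (g : P k) (hg : g ∈ ({(X 0 ^ 2 : P k), X 0 * X 1, X 1 ^ 2, X 0 * X 2, X 1 * X 2 ^ 2, X 2 ^ 4} :
    Set (P k))) : Ideal.Quotient.mk (eqn k n) g ∈ I k n :=
  Ideal.mem_map_of_mem _ (Ideal.subset_span hg)

theorem m2 : mon (x k n) ![2, 0, 0] ∈ I k n := by
  rw [mon_vec, pow_zero, pow_zero, mul_one, mul_one, ← map_pow]; exact gen_mem _ (by simp)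
theorem m11 : mon (x k n) ![1, 1, 0] ∈ I k n := by
  rw [mon_vec, pow_one, pow_one, pow_zero, mul_one, ← map_mul]; exact gen_mem _ (by simp)
theorem m02 : mon (x k n) ![0, 2, 0] ∈ I k n := by
  rw [mon_vec, pow_zero, pow_zero, one_mul, mul_one, ← map_pow]; exact gen_mem _ (by simp)
theorem m101 : mon (x k n) ![1, 0, 1] ∈ I k n := by
  rw [mon_vec, pow_one, pow_one, pow_zero, mul_one, ← map_mul]; exact gen_mem _ (by simp)
theorem m012 : mon (x k n) ![0, 1, 2] ∈ I k n := by
  rw [mon_vec, pow_zero, pow_one, one_mul, ← map_pow, ← map_mul]; exact gen_mem _ (by simp)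
theorem m004 : mon (x k n) ![0, 0, 4] ∈ I k n := by
  rw [mon_vec, pow_zero, pow_zero, one_mul, one_mul, ← map_pow]; exact gen_mem _ (by simp)

theorem mon_mem_of_le {J : Ideal (A k n)} {a b : Fin 3 → ℕ} (hb : mon (x k n) b ∈ J) (h : b ≤ a) :
    mon (x k n) a ∈ J := by
  rw [show a = (a - b) + b from funext fun i => (Nat.sub_add_cancel (h i)).symm, mon_add]
  exact J.mul_mem_left _ hb

theorem mem_one {a : Fin 3 → ℕ} (ha : 4 ≤ ∑ i, a i) : mon (x k n) a ∈ I k n := by
  rw [Fin.sum_univ_three] at ha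
  by_cases h0 : 2 ≤ a 0
  · exact mon_mem_of_le m2 fun i => by fin_cases i <;> simp <;> omega
  by_cases h1 : 1 ≤ a 0
  · by_cases h2 : 1 ≤ a 1
    · exact mon_mem_of_le m11 fun i => by fin_cases i <;> simp <;> omega
    · exact mon_mem_of_le m101 fun i => by fin_cases i <;> simp <;> omega
  by_cases h2 : 2 ≤ a 1
  · exact mon_mem_of_le m02 fun i => by fin_cases i <;> simp <;> omega
  by_cases h3 : 1 ≤ a 1
  · exact mon_mem_of_le m012 fun i => by fin_cases i <;> simp <;> omega
  · exact mon_mem_of_le m004 fun i => by fin_cases i <;> simp <;> omega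

theorem split_mem {m : ℕ} (g a : Fin 3 → ℕ) (hg : mon (x k n) g ∈ I k n) (hga : g ≤ a)
    (ih : mon (x k n) (a - g) ∈ I k n ^ m) : mon (x k n) a ∈ I k n ^ (m + 1) := by
  rw [show a = (a - g) + g from funext fun i => (Nat.sub_add_cancel (hga i)).symm, mon_add, I_succ]
  exact Ideal.mul_mem_mul ih hg

theorem mem_pow_of_weight : ∀ (m : ℕ) (a : Fin 3 → ℕ), a 0 ≤ 1 → 4 * m ≤ w a →
    mon (x k n) a ∈ I k n ^ m
  | 0, a, _, _ => by rw [I_zero]; trivial
  | m + 1, a, h0, hw => by
    rw [w] at hw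
    by_cases h1 : 1 ≤ a 0
    · by_cases h2 : 1 ≤ a 2
      · refine split_mem _ a m101 (fun i => by fin_cases i <;> simp <;> omega)
          (mem_pow_of_weight m _ (by simp; omega) (by simp [w]; omega))
      · refine split_mem _ a m11 (fun i => by fin_cases i <;> simp <;> omega)
          (mem_pow_of_weight m _ (by simp; omega) (by simp [w]; omega))
    by_cases h2 : 2 ≤ a 1
    · refine split_mem _ a m02 (fun i => by fin_cases i <;> simp <;> omega)
        (mem_pow_of_weight m _ (by simp; omega) (by simp [w]; omega))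
    by_cases h3 : 1 ≤ a 1
    · refine split_mem _ a m012 (fun i => by fin_cases i <;> simp <;> omega)
        (mem_pow_of_weight m _ (by simp; omega) (by simp [w]; omega))
    · refine split_mem _ a m004 (fun i => by fin_cases i <;> simp <;> omega)
        (mem_pow_of_weight m _ (by simp; omega) (by simp [w]; omega))

theorem max_pow_le [IsLocalRing (A k n)] (m : ℕ) : IsLocalRing.maximalIdeal (A k n) ^ (4 * m) ≤ I k n ^ m := by
  rw [pow_mul]
  refine Ideal.pow_right_mono ((pow_le_span span_x 4).trans (Ideal.span_le.2 ?_)) m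
  rintro _ ⟨b, hb, rfl⟩
  exact mem_one (le_of_eq (show ∑ i, b i = 4 from hb).symm)

theorem w_add (a b : Fin 3 → ℕ) : w (a + b) = w a + w b := by simp [w]; ring

theorem pow_le_span_weight : ∀ m : ℕ, I k n ^ m ≤ Ideal.span (mon (x k n) '' {b | 4 * m ≤ w b})
  | 0 => by
    refine fun r _ => ?_
    have h : (1 : A k n) ∈ Ideal.span (mon (x k n) '' {b | 4 * 0 ≤ w b}) :=
      Ideal.subset_span ⟨0, Nat.zero_le _, by simp [mon]⟩
    simpa using Ideal.mul_mem_left _ r h
  | m + 1 => by
    have h1 : I k n ≤ Ideal.span (mon (x k n) '' {b | 4 ≤ w b}) := by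
      rw [Ideal.map_le_iff_le_comap, Ideal.span_le]
      intro g hg
      have key : ∀ a b c : ℕ, g = X 0 ^ a * X 1 ^ b * X 2 ^ c → 4 ≤ 3 * a + 2 * b + c →
          Ideal.Quotient.mk (eqn k n) g ∈ Ideal.span (mon (x k n) '' {b | 4 ≤ w b}) := fun a b c e h =>
        Ideal.subset_span ⟨![a, b, c], h, by rw [mon_vec, e, map_mul, map_mul, map_pow, map_pow, map_pow]⟩
      rcases hg with h | h | h | h | h | h
      · exact key 2 0 0 (by rw [h]; ring) (by norm_num)
      · exact key 1 1 0 (by rw [h]; ring) (by norm_num)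
      · exact key 0 2 0 (by rw [h]; ring) (by norm_num)
      · exact key 1 0 1 (by rw [h]; ring) (by norm_num)
      · exact key 0 1 2 (by rw [h]; ring) (by norm_num)
      · exact key 0 0 4 (by rw [h]; ring) (by norm_num)
    rw [I_succ]
    refine (Ideal.mul_mono (pow_le_span_weight m) h1).trans ?_
    rw [Ideal.span_mul_span', Ideal.span_le]
    rintro _ ⟨_, ⟨b, hb, rfl⟩, _, ⟨c, hc, rfl⟩, rfl⟩
    refine Ideal.subset_span ⟨b + c, ?_, mon_add _ b c⟩
    change 4 * (m + 1) ≤ w (b + c)
    have hb' : 4 * m ≤ w b := hb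
    have hc' : 4 ≤ w c := hc
    rw [w_add]; omega

/-- The exponents read by the coefficient functional at `a`. -/
def rd (n : ℕ) (a : Fin 3 → ℕ) (q : ℕ) : Fin 3 → ℕ := ![2 * q + a 0, a 1 - n * q, a 2]

/-- The indices of the functional. -/
def idx (n : ℕ) (a : Fin 3 → ℕ) : Finset ℕ := (Finset.range (a 1 + 1)).filter fun q => n * q ≤ a 1

/-- The functional. -/
noncomputable def coef (n : ℕ) (a : Fin 3 → ℕ) : P k →ₗ[k] k :=
  ∑ q ∈ idx n a, coeff (E (rd n a q))

open Classical in
theorem coeff_mon_mul (b c : Fin 3 → ℕ) (φ : P k) :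
    coeff (E c) (monomial (E b) 1 * φ) = if b ≤ c then coeff (E (c - b)) φ else 0 := by
  rw [coeff_monomial_mul, one_mul]
  refine if_congr (Iff.rfl.trans ?_) ?_ rfl
  · constructor <;> intro h i <;> exact h i
  · congr 1
    exact congrArg _ (Finsupp.ext fun i => rfl)

theorem coef_rel (hn : 3 ≤ n) (a : Fin 3 → ℕ) (ha : a 0 ≤ 1) (φ : P k) :
    coef n a ((X 0 ^ 2 - X 1 ^ n) * φ) = 0 := by
  have h0 : (X 0 : P k) ^ 2 = monomial (E ![2, 0, 0]) 1 := by
    rw [← X_pow_prod, Fin.prod_univ_three]; simp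
  have h1 : (X 1 : P k) ^ n = monomial (E ![0, n, 0]) 1 := by
    rw [← X_pow_prod, Fin.prod_univ_three]; simp
  rw [sub_mul, map_sub, sub_eq_zero, h0, h1, coef, LinearMap.sum_apply, LinearMap.sum_apply]
  simp only [coeff_mon_mul]
  rw [← Finset.sum_filter, ← Finset.sum_filter]
  refine Finset.sum_nbij' (fun q => q - 1) (fun q => q + 1) ?_ ?_ ?_ ?_ ?_
  · intro q hq
    simp only [Finset.coe_filter, Finset.mem_filter, idx, Finset.mem_range, Set.mem_setOf_eq] at hq ⊢
    have hq0 : 1 ≤ q := by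
      by_contra h
      have := hq.2 0
      simp [rd] at this
      omega
    have hmul : n * q = n * (q - 1) + n := by
      obtain ⟨p, rfl⟩ : ∃ p, q = p + 1 := ⟨q - 1, by omega⟩
      simp [Nat.mul_succ]
    refine ⟨⟨by omega, by omega⟩, fun i => ?_⟩
    fin_cases i <;> simp [rd]
    omega
  · intro q hq
    simp only [Finset.coe_filter, Finset.mem_filter, idx, Finset.mem_range, Set.mem_setOf_eq] at hq ⊢
    have hle := hq.2 1
    simp [rd] at hle
    have hmul : n * (q + 1) = n * q + n := Nat.mul_succ _ _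
    have hq1 : q ≤ n * q := Nat.le_mul_of_pos_left q (by omega)
    refine ⟨⟨by omega, by omega⟩, fun i => ?_⟩
    fin_cases i <;> simp [rd]
    omega
  · intro q hq
    simp only [Finset.coe_filter, Finset.mem_filter, idx, Finset.mem_range, Set.mem_setOf_eq] at hq
    have := hq.2 0
    simp [rd] at this
    omega
  · intro q _
    omega
  · intro q hq
    simp only [Finset.coe_filter, Finset.mem_filter, idx, Finset.mem_range, Set.mem_setOf_eq] at hq
    have hq0 : 1 ≤ q := by
      by_contra h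
      have := hq.2 0
      simp [rd] at this
      omega
    obtain ⟨p, rfl⟩ : ∃ p, q = p + 1 := ⟨q - 1, by omega⟩
    refine congrArg (fun e => coeff (E e) φ) (funext fun i => ?_)
    have hmul : n * (p + 1) = n * p + n := Nat.mul_succ _ _
    fin_cases i <;> simp [rd]
    · omega
    · omega

theorem coef_mon {a b : Fin 3 → ℕ} (hn : 3 ≤ n) (hb : ∀ q, n * q ≤ a 1 → ¬ b ≤ rd n a q) (φ : P k) :
    coef n a (monomial (E b) 1 * φ) = 0 := by
  rw [coef, LinearMap.sum_apply]
  refine Finset.sum_eq_zero fun q hq => ?_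
  rw [coeff_mon_mul, if_neg (hb q (Finset.mem_filter.1 hq).2)]

theorem esc_iff [IsLocalRing (A k n)] (hn : 3 ≤ n) (m : ℕ) (a : Fin 3 → ℕ) :
    Esc (x k n) (I k n ^ m) a ↔ a 0 ≤ 1 ∧ w a < 4 * m := by
  constructor
  · intro h
    have h0 : a 0 ≤ 1 := by
      by_contra h0
      refine h (Ideal.mem_sup_right ?_)
      have e : mon (x k n) a = mon (x k n) ![a 0 - 2, a 1 + n, a 2] := by
        rw [mon_vec, mon, Fin.prod_univ_three]
        have hr : x k n 0 ^ 2 = x k n 1 ^ n := by
          rw [← map_pow, ← map_pow, Ideal.Quotient.eq]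
          exact Ideal.mem_span_singleton_self _
        calc x k n 0 ^ a 0 * x k n 1 ^ a 1 * x k n 2 ^ a 2
            = (x k n 0 ^ (a 0 - 2) * x k n 0 ^ 2) * x k n 1 ^ a 1 * x k n 2 ^ a 2 := by
              rw [← pow_add, Nat.sub_add_cancel (by omega : 2 ≤ a 0)]
          _ = _ := by rw [hr, pow_add]; ring
      rw [e]
      refine Ideal.subset_span ⟨_, key_lt_iff.2 (Or.inl ?_), rfl⟩
      simp [Fin.sum_univ_three]
      omega
    refine ⟨h0, not_le.1 fun hw => h (Ideal.mem_sup_left (mem_pow_of_weight m a h0 hw))⟩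
  · rintro ⟨h0, hw⟩ hmem
    have hle : I k n ^ m ⊔ F (x k n) a ≤
        (Ideal.span ((fun b => (monomial (E b) (1 : k) : P k)) '' {b | 4 * m ≤ w b ∨ key a < key b})).map
          (Ideal.Quotient.mk (eqn k n)) := by
      rw [Ideal.map_span, Set.image_image]
      refine sup_le ((pow_le_span_weight m).trans (Ideal.span_mono ?_)) (Ideal.span_mono ?_)
      · rintro _ ⟨b, hb, rfl⟩; exact ⟨b, Or.inl hb, (mon_eq b).symm⟩
      · rintro _ ⟨b, hb, rfl⟩; exact ⟨b, Or.inr hb, (mon_eq b).symm⟩
    obtain ⟨φ, hφ, hφ'⟩ := (Ideal.mem_map_iff_of_surjective _ Ideal.Quotient.mk_surjective).1 (hle hmem)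
    rw [mon_eq, Ideal.Quotient.eq] at hφ'
    obtain ⟨ψ, hψ⟩ := Ideal.mem_span_singleton.1 hφ'
    have h1 : coef n a φ = 0 := by
      suffices h : ∀ ψ : P k, coef n a (ψ * φ) = 0 by simpa using h 1
      clear hψ hφ'
      induction hφ using Submodule.span_induction with
      | mem g hg =>
        obtain ⟨b, hb, rfl⟩ := hg
        intro ψ
        rw [mul_comm]
        refine coef_mon hn (fun q hq hbq => ?_) ψ
        have hdeg : ∀ i, b i ≤ rd n a q i := hbq
        have hb0 := hdeg 0
        have hb1 := hdeg 1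
        have hb2 := hdeg 2
        simp [rd] at hb0 hb1 hb2
        have h3 : 3 * q ≤ n * q := Nat.mul_le_mul_right q hn
        rcases hb with hb | hb
        · rw [w] at hb hw; omega
        · rcases key_lt_iff.1 hb with hd | ⟨hd, hlex⟩
          · rw [Fin.sum_univ_three, Fin.sum_univ_three] at hd
            omega
          · rw [Fin.sum_univ_three, Fin.sum_univ_three] at hd
            have hab : a = b := funext fun i => by
              fin_cases i
              · show a 0 = b 0; omega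
              · show a 1 = b 1; omega
              · show a 2 = b 2; omega
            exact lt_irrefl _ (hab ▸ hlex)
      | zero => intro ψ; rw [mul_zero, map_zero]
      | add p r _ _ hp hr => intro ψ; rw [mul_add, map_add, hp, hr, add_zero]
      | smul c p _ hp => intro ψ; rw [smul_eq_mul, ← mul_assoc]; exact hp _
    have h2 : coef n a (monomial (E a) (1 : k)) = 1 := by
      rw [coef, LinearMap.sum_apply, Finset.sum_eq_single 0]
      · rw [show rd n a 0 = a from funext fun i => by fin_cases i <;> simp [rd], coeff_monomial_same]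
      · intro q _ hq0
        rw [coeff_monomial_ne]
        intro e
        have := congrArg (fun f : Fin 3 →₀ ℕ => f 0) e
        simp [E, rd] at this
        omega
      · intro h; simp [idx] at h
    have h3 := coef_rel hn a h0 ψ
    rw [← hψ, map_sub, h1, h2, zero_sub, neg_eq_zero] at h3
    exact one_ne_zero h3

theorem card_tri : ∀ m : ℕ,
    (∑ i ∈ Finset.range (2 * m), (4 * m - 2 * i) = 4 * m ^ 2 + 2 * m) ∧
      (∑ i ∈ Finset.range (2 * m + 1), (4 * m + 1 - 2 * i) = (2 * m + 1) ^ 2)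
  | 0 => by simp
  | m + 1 => by
    obtain ⟨h1, h2⟩ := card_tri m
    constructor
    · rw [show 2 * (m + 1) = 2 * m + 1 + 1 by omega, Finset.sum_range_succ', Finset.sum_range_succ']
      rw [show ∑ i ∈ Finset.range (2 * m), (4 * (m + 1) - 2 * (i + 1 + 1)) =
        ∑ i ∈ Finset.range (2 * m), (4 * m - 2 * i) from Finset.sum_congr rfl fun i _ => by omega, h1]
      simp only [Nat.mul_zero, Nat.zero_add, Nat.sub_zero]
      have : (m + 1) ^ 2 = m ^ 2 + 2 * m + 1 := by ring
      omega
    · rw [show 2 * (m + 1) + 1 = 2 * m + 1 + 1 + 1 by omega, Finset.sum_range_succ', Finset.sum_range_succ']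
      rw [show ∑ i ∈ Finset.range (2 * m + 1), (4 * (m + 1) + 1 - 2 * (i + 1 + 1)) =
        ∑ i ∈ Finset.range (2 * m + 1), (4 * m + 1 - 2 * i) from Finset.sum_congr rfl fun i _ => by omega, h2]
      simp only [Nat.mul_zero, Nat.zero_add, Nat.sub_zero]
      have : (2 * m + 1 + 1 + 1) ^ 2 = (2 * m + 1) ^ 2 + 8 * m + 8 := by ring
      omega

theorem card_eq (j : ℕ) :
    ((simplex 3 (4 * (j + 1))).filter fun a => a 0 ≤ 1 ∧ w a < 4 * (j + 1)).card =
      4 * (j + 1) ^ 2 + 2 * (j + 1) + (2 * j + 1) ^ 2 := by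
  rw [← (card_tri (j + 1)).1, ← (card_tri j).2,
    ← Finset.card_filter_add_card_filter_not (fun a : Fin 3 → ℕ => a 0 = 0)]
  congr 1
  · rw [← Finset.sum_congr rfl fun i _ => Finset.card_range (4 * (j + 1) - 2 * i), ← Finset.card_sigma]
    refine Finset.card_nbij' (fun a => ⟨a 1, a 2⟩) (fun p => ![0, p.1, p.2]) ?_ ?_ ?_ ?_
    · intro a ha
      rw [Finset.mem_coe, Finset.mem_filter, Finset.mem_filter, mem_simplex] at ha
      simp [Fin.sum_univ_three, w] at ha ⊢
      omega
    · intro p hp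
      simp only [Finset.mem_coe, Finset.mem_sigma, Finset.mem_range] at hp
      rw [Finset.mem_coe, Finset.mem_filter, Finset.mem_filter, mem_simplex]
      simp [Fin.sum_univ_three, w]
      omega
    · intro a ha
      simp only [Finset.coe_filter, Finset.mem_filter, Set.mem_setOf_eq] at ha
      funext i
      fin_cases i <;> simp [ha.2]
    · intro p _; rfl
  · rw [← Finset.sum_congr rfl fun i _ => Finset.card_range (4 * j + 1 - 2 * i), ← Finset.card_sigma]
    refine Finset.card_nbij' (fun a => ⟨a 1, a 2⟩) (fun p => ![1, p.1, p.2]) ?_ ?_ ?_ ?_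
    · intro a ha
      rw [Finset.mem_coe, Finset.mem_filter, Finset.mem_filter, mem_simplex] at ha
      simp [Fin.sum_univ_three, w] at ha ⊢
      omega
    · intro p hp
      simp only [Finset.mem_coe, Finset.mem_sigma, Finset.mem_range] at hp
      rw [Finset.mem_coe, Finset.mem_filter, Finset.mem_filter, mem_simplex]
      simp [Fin.sum_univ_three, w]
      omega
    · intro a ha
      simp only [Finset.coe_filter, Finset.mem_filter, Set.mem_setOf_eq] at ha
      funext i
      fin_cases i <;> simp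
      show 1 = a 0
      omega
    · intro p _; rfl

set_option maxHeartbeats 1000000 in
theorem length_eq (hn : 3 ≤ n) (j : ℕ) :
    Module.length (A k n) (A k n ⧸ I k n ^ (j + 1)) =
      ((4 * (j + 1) ^ 2 + 2 * (j + 1) + (2 * j + 1) ^ 2 : ℕ) : ℕ∞) := by
  classical
  haveI := nontrivial (k := k) (n := n) (by omega)
  haveI : IsLocalRing (A k n) := IsLocalRing.of_surjective' (Ideal.Quotient.mk (eqn k n)) Ideal.Quotient.mk_surjective
  rw [length_eq_card span_x (max_pow_le (j + 1)), ← card_eq j]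
  congr 2
  exact Finset.filter_congr fun a _ => esc_iff hn (j + 1) a

theorem result (hn : 3 ≤ n) :
    Module.length (A k n) (A k n ⧸ I k n) = 7 ∧
      Tendsto (fun m : ℕ => (2 : ℝ) * ((Module.length (A k n) (A k n ⧸ I k n ^ m)).toNat : ℝ) / (m : ℝ) ^ 2)
        atTop (𝓝 16) := by
  constructor
  · have h := length_eq (k := k) hn 0
    rw [zero_add, show I k n ^ 1 = I k n from pow_one _] at h
    rw [h]; rfl
  · have h : Tendsto (fun m : ℕ => (16 : ℝ) - 4 * (1 / (m : ℝ)) + 2 * ((1 / (m : ℝ)) * (1 / (m : ℝ)))) atTop (𝓝 16) := by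
      have h1 := tendsto_one_div_atTop_nhds_zero_nat (𝕜 := ℝ)
      simpa using (tendsto_const_nhds (x := (16 : ℝ))).sub (h1.const_mul 4) |>.add ((h1.mul h1).const_mul 2)
    refine h.congr' ?_
    filter_upwards [eventually_gt_atTop 0] with m hm
    obtain ⟨j, rfl⟩ : ∃ j, m = j + 1 := ⟨m - 1, by omega⟩
    rw [length_eq hn j, ENat.toNat_natCast]
    have : ((j : ℝ) + 1) ≠ 0 := by positivity
    push_cast
    field_simp
    ring

end Groth.Agent.LocMonomial.DoublePoint
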