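import Groth.Agent.LocMonomial.Count
import Mathlib.Topology.Instances.Real.Lemmas
import Mathlib.Analysis.SpecificLimits.Basic
import Mathlib.Algebra.BigOperators.Field
import Mathlib.Analysis.Asymptotics.SpecificAsymptotics

/-!
# Lech's inequality `e(I) ≤ r! e(O) length(O/I)`
-/

universe u

open Filter Topology

namespace Groth.Agent.LocMonomial.Lech

open Count

variable {O : Type u} [CommRing O] [IsLocalRing O] {R : ℕ} {x : Fin R → O}
  (hx : Ideal.span (Set.range x) = IsLocalRing.maximalIdeal O)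

theorem D_down (a b : Fin R → ℕ) (hb : Esc x (⊥ : Ideal O) b) (hab : a ≤ b) : Esc x (⊥ : Ideal O) a :=
  esc_of_le hb hab

open Classical in
include hx in
theorem length_pow_le {I : Ideal O} {N₀ : ℕ} (hN₀ : IsLocalRing.maximalIdeal O ^ N₀ ≤ I) {n : ℕ} (hn : 0 < n) :
    (Module.length O (O ⧸ I ^ n)).toNat ≤
      (Module.length O (O ⧸ I)).toNat * (box (Esc x (⊥ : Ideal O)) n).card := by
  have hpow : IsLocalRing.maximalIdeal O ^ (N₀ * n) ≤ I ^ n := by
    rw [pow_mul]; exact Ideal.pow_right_mono hN₀ n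
  rw [length_eq_card hx hpow, length_eq_card hx hN₀, ENat.toNat_natCast, ENat.toNat_natCast,
    ← Finset.card_product]
  refine Finset.card_le_card_of_injOn (fun a => (fun i => a i / n, fun i => a i % n)) (fun a ha => ?_)
    fun a _ b _ h => ?_
  · obtain ⟨-, ha⟩ := Finset.mem_filter.1 ha
    have hq : Esc x I fun i => a i / n := by
      by_contra hq
      refine not_esc_add (not_esc_pow hq n) (fun i => a i % n) ?_
      rwa [show (n • fun i => a i / n) + (fun i => a i % n) = a from funext fun i => Nat.div_add_mod (a i) n]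
    refine Finset.mem_product.2 ⟨Finset.mem_filter.2 ⟨mem_simplex.2 ?_, hq⟩, Finset.mem_filter.2 ⟨?_, ?_⟩⟩
    · by_contra h
      exact not_esc_of_le hx hN₀ (not_lt.1 h) hq
    · exact Fintype.mem_piFinset.2 fun i => Finset.mem_range.2 (Nat.mod_lt _ hn)
    · exact esc_of_le (esc_anti bot_le ha) fun i => Nat.mod_le _ _
  · funext i
    rw [← Nat.div_add_mod (a i) n, ← Nat.div_add_mod (b i) n]
    exact congrArg₂ (fun p q => n * p + q) (congrFun (congrArg Prod.fst h) i) (congrFun (congrArg Prod.snd h) i)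

open Classical in
include hx in
theorem sum_le_length {N : ℕ} (hN : ∀ a, Esc x (⊥ : Ideal O) a ↔ Esc x ⊥ (trunc N a)) {n : ℕ}
    (hn : R * N + 1 ≤ n) :
    ∑ c ∈ cells (Esc x (⊥ : Ideal O)) N, ((free N c).card + (n - 1 - R * N)).choose (free N c).card ≤
      (Module.length O (O ⧸ IsLocalRing.maximalIdeal O ^ n)).toNat := by
  refine (card_simplex_ge hN hn).trans (le_of_eq ?_)
  rw [length_eq_card hx le_rfl, ENat.toNat_natCast]
  exact congrArg Finset.card (Finset.filter_congr fun a ha => (esc_pow_iff hx (mem_simplex.1 ha)).symm)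

include hx in
/-- Lech's inequality. -/
theorem lech {r : ℕ} {I : Ideal O} {N₀ : ℕ} (hN₀ : IsLocalRing.maximalIdeal O ^ N₀ ≤ I) {eI eO : ℝ}
    (heI : Tendsto (fun n : ℕ => (r.factorial : ℝ) * ((Module.length O (O ⧸ I ^ n)).toNat : ℝ) / (n : ℝ) ^ r)
      atTop (𝓝 eI))
    (heO : Tendsto (fun n : ℕ => (r.factorial : ℝ) *
        ((Module.length O (O ⧸ IsLocalRing.maximalIdeal O ^ n)).toNat : ℝ) / (n : ℝ) ^ r) atTop (𝓝 eO)) :
    eI ≤ (r.factorial : ℝ) * eO * ((Module.length O (O ⧸ I)).toNat : ℝ) := by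
  classical
  obtain ⟨N, hN⟩ := exists_trunc (Esc x (⊥ : Ideal O)) D_down
  set C := cells (Esc x (⊥ : Ideal O)) N
  set ℓ := (Module.length O (O ⧸ I)).toNat
  have hlow : ∀ n, R * N + 1 ≤ n → ∀ c ∈ C, ∀ s, (free N c).card = s →
      ((n - R * N : ℕ) : ℝ) ^ s ≤ s.factorial * ((s + (n - 1 - R * N)).choose s : ℕ) := by
    intro n hn c _ s _
    have := pow_le_choose_mul s (n - 1 - R * N)
    rw [show n - 1 - R * N + 1 = n - R * N by omega] at this
    exact_mod_cast this
  -- no cell has more than `r` free coordinates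
  have hdim : ∀ c ∈ C, (free N c).card ≤ r := by
    intro c hc
    by_contra! hs
    set s := (free N c).card with hsdef
    have hev := heO.eventually (eventually_lt_nhds (lt_add_one eO))
    obtain ⟨n₁, hn₁⟩ := eventually_atTop.1 hev
    obtain ⟨n₂, hn₂⟩ := exists_nat_gt ((2 : ℝ) ^ r * s.factorial * (|eO| + 1))
    let n := n₁ + n₂ + 2 * (R * N) + 1
    have h1 := hn₁ n (by omega)
    have hL : ((s + (n - 1 - R * N)).choose s : ℝ) ≤
        ((Module.length O (O ⧸ IsLocalRing.maximalIdeal O ^ n)).toNat : ℝ) := by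
      exact_mod_cast (Finset.single_le_sum (fun c _ => Nat.zero_le _) hc).trans (sum_le_length hx hN (n := n) (by omega))
    have h2 := hlow n (by omega) c hc s rfl
    set t : ℝ := ((n - R * N : ℕ) : ℝ) with ht
    have ht1 : (1 : ℝ) ≤ t := by rw [ht]; exact_mod_cast (show 1 ≤ n - R * N by omega)
    have htn : (n : ℝ) ≤ 2 * t := by rw [ht]; exact_mod_cast (show n ≤ 2 * (n - R * N) by omega)
    have htb : (2 : ℝ) ^ r * s.factorial * (|eO| + 1) < t :=
      hn₂.trans_le (by rw [ht]; exact_mod_cast (show n₂ ≤ n - R * N by omega))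
    have hnr : (0 : ℝ) < (n : ℝ) ^ r := pow_pos (Nat.cast_pos.2 (by omega)) r
    rw [div_lt_iff₀ hnr] at h1
    have hrf : (1 : ℝ) ≤ r.factorial := by exact_mod_cast r.factorial_pos
    have h3 : t ^ r * t ≤ s.factorial * ((|eO| + 1) * (2 * t) ^ r) := by
      rw [← pow_succ]
      refine (pow_le_pow_right₀ ht1 hs).trans (h2.trans (mul_le_mul_of_nonneg_left ?_ (Nat.cast_nonneg _)))
      refine hL.trans ((le_mul_of_one_le_left (Nat.cast_nonneg _) hrf).trans (h1.le.trans ?_))
      exact mul_le_mul (add_le_add (le_abs_self eO) le_rfl) (pow_le_pow_left₀ (Nat.cast_nonneg _) htn r)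
        hnr.le (by positivity)
    rw [mul_pow] at h3
    have h4 : t ^ r * t ≤ t ^ r * ((2 : ℝ) ^ r * s.factorial * (|eO| + 1)) := by linarith
    exact absurd (le_of_mul_le_mul_left h4 (pow_pos (zero_lt_one.trans_le ht1) r)) (not_le.2 htb)
  set V := (C.filter fun c => (free N c).card = r).card
  have hV : (V : ℝ) ≤ eO := by
    have hg : Tendsto (fun n : ℕ => (V : ℝ) * (1 - (R * N : ℕ) / (n : ℝ)) ^ r) atTop (𝓝 V) := by
      have h0 := ((tendsto_const_div_atTop_nhds_zero_nat ((R * N : ℕ) : ℝ)).const_sub 1).pow r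
      simpa using h0.const_mul (V : ℝ)
    refine le_of_tendsto_of_tendsto hg heO ?_
    filter_upwards [eventually_ge_atTop (R * N + 1)] with n hn
    have hn0 : (0 : ℝ) < n := Nat.cast_pos.2 (by omega)
    rw [one_sub_div hn0.ne', div_pow, ← Nat.cast_sub (by omega : R * N ≤ n), ← mul_div_assoc]
    refine div_le_div_of_nonneg_right ?_ (pow_nonneg hn0.le r)
    calc (V : ℝ) * ((n - R * N : ℕ) : ℝ) ^ r
        ≤ ∑ c ∈ C.filter (fun c => (free N c).card = r),
            (r.factorial : ℝ) * (((free N c).card + (n - 1 - R * N)).choose (free N c).card : ℕ) := by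
          rw [← nsmul_eq_mul, ← Finset.sum_const]
          refine Finset.sum_le_sum fun c hc => ?_
          obtain ⟨hc, hs⟩ := Finset.mem_filter.1 hc
          rw [hs]
          exact hlow n hn c hc r hs
      _ ≤ ∑ c ∈ C, (r.factorial : ℝ) * (((free N c).card + (n - 1 - R * N)).choose (free N c).card : ℕ) :=
          Finset.sum_le_sum_of_subset_of_nonneg (Finset.filter_subset _ _) fun c _ _ => by positivity
      _ ≤ _ := by
          rw [← Finset.mul_sum]
          refine mul_le_mul_of_nonneg_left ?_ (Nat.cast_nonneg _)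
          exact_mod_cast sum_le_length hx hN hn
  have hh : Tendsto (fun n : ℕ => (r.factorial : ℝ) * ℓ * ∑ c ∈ C, (n : ℝ) ^ (free N c).card / (n : ℝ) ^ r)
      atTop (𝓝 ((r.factorial : ℝ) * ℓ * V)) := by
    refine Tendsto.const_mul _ ?_
    have hsum : (V : ℝ) = ∑ c ∈ C, if (free N c).card = r then (1 : ℝ) else 0 := by
      rw [Finset.sum_boole]
    rw [hsum]
    refine tendsto_finsetSum _ fun c hc => ?_
    rcases (hdim c hc).lt_or_eq with h | h
    · rw [if_neg h.ne]
      exact (tendsto_pow_div_pow_atTop_zero h).comp tendsto_natCast_atTop_atTop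
    · rw [if_pos h, h]
      refine tendsto_const_nhds.congr' ?_
      filter_upwards [eventually_gt_atTop 0] with n hn
      exact (div_self (pow_ne_zero _ (Nat.cast_ne_zero.2 hn.ne'))).symm
  have h5 : eI ≤ (r.factorial : ℝ) * ℓ * V := by
    refine le_of_tendsto_of_tendsto heI hh ?_
    filter_upwards [eventually_gt_atTop 0] with n hn
    rw [← Finset.sum_div, ← mul_div_assoc, mul_assoc]
    refine div_le_div_of_nonneg_right (mul_le_mul_of_nonneg_left ?_ (Nat.cast_nonneg _)) (by positivity)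
    exact_mod_cast (length_pow_le hx hN₀ hn).trans (Nat.mul_le_mul_left _ (card_box_le hN n))
  refine h5.trans ?_
  rw [mul_right_comm]
  exact mul_le_mul_of_nonneg_right (mul_le_mul_of_nonneg_left hV (Nat.cast_nonneg _)) (Nat.cast_nonneg _)

end Groth.Agent.LocMonomial.Lech
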